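import Cfsg.Agent.Lib.Char.GLThreeCore.Hyp
import Cfsg.Agent.Lib.Block.OneBlock
import Cfsg.Agent.Lib.Block.PrincipalCoreInflation
import Cfsg.Agent.Lib.Block.SecondMain
import Cfsg.Agent.Lib.Block.SubsectionCount
import Cfsg.Agent.Lib.Block.Local
import Cfsg.Agent.Lib.Invol.PrincipalBlock

/-!
# The principal `2`-block at an involution centralizer with quotient `GL(2, 3)`
-/

open Subgroup Finset
open scoped ComplexConjugate

set_option autoImplicit false
set_option linter.unusedSectionVars false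
set_option linter.style.haveILetI false

namespace CfsgLib.Char.GLThreeCore

open Cfsg CfsgLib.Block CfsgLib.Block.Cyclic CfsgLib.Char CfsgLib.Char.GLThreeCent

universe u

/-- The codes of the quaternion subgroup. -/
def inQ (i : Fin 48) : Prop := powI i 4 = oneI ∧ sgn i = 1

instance : DecidablePred inQ := fun _ => instDecidableAnd

theorem inQ_facts : inQ oneI ∧ (∀ i j, inQ i → inQ j → inQ (mulI i j)) ∧ (∀ i, inQ i → inQ (invI i)) ∧
    (∀ i j, inQ j → inQ (mulI (mulI i j) (invI i))) := by decide +kernel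

theorem inQ_self : ∀ i, (∀ j, inQ j → mulI j i = mulI i j) → inQ i := by decide +kernel

variable {G : Type u} [Group G] [Fintype G] {t : G} (h : Core t) {M : Ideal AlgInt}
  [Fintype (centralizer ({t} : Set G))]

/-- The preimage of the quaternion subgroup. -/
def Core.qsub : Subgroup (centralizer ({t} : Set G)) where
  carrier := {a | inQ (h.pi a)}
  one_mem' := by show inQ (h.pi 1); rw [h.pi_one]; exact inQ_facts.1
  mul_mem' {a b} ha hb := by show inQ (h.pi (a * b)); rw [h.pi_mul]; exact inQ_facts.2.1 _ _ ha hb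
  inv_mem' {a} ha := by show inQ (h.pi a⁻¹); rw [h.pi_inv]; exact inQ_facts.2.2.1 _ ha

theorem Core.ker_not_dvd : ¬ 2 ∣ Nat.card h.ψ.ker := fun hd => by
  obtain ⟨c, hc⟩ := h.odd
  omega

theorem Core.principal_iff (hM : IsPModular 2 M) (η : IrrCharacter (centralizer ({t} : Set G))) :
    η ∈ principalBlock M (centralizer ({t} : Set G)) ↔
      ∀ v ∈ h.ψ.ker, (η : centralizer ({t} : Set G) → ℂ) v = (η : centralizer ({t} : Set G) → ℂ) 1 := by
  classical
  haveI : Fact (Nat.Prime 2) := ⟨Nat.prime_two⟩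
  haveI := hM.2.1
  letI := Fintype.ofFinite h.ψ.ker
  constructor
  · intro hη v hv
    exact trivial_of_sameBlock (N := h.ψ.ker) (χ := oneChar (centralizer ({t} : Set G))) (ψ := η) hM
      h.ker_not_dvd hη (fun _ _ => rfl) hv
  · intro hη
    obtain ⟨θ, hθ⟩ := exists_deflate (N := h.ψ.ker) η hη
    letI := Fintype.ofFinite (centralizer ({t} : Set G) ⧸ h.ψ.ker)
    have e : inflQ θ = η := Subtype.ext (funext hθ)
    rw [← e, PrincipalCore.inflQ_mem_iff hM h.ker_not_dvd]
    set π := QuotientGroup.mk' h.ψ.ker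
    have hker : ∀ a, π a ∈ h.qsub.map π → inQ (h.pi a) := by
      rintro a ⟨b, hb, hab⟩
      have : h.pi b = h.pi a := (h.pi_eq_iff b a).2 (QuotientGroup.eq.1 hab)
      rw [← this]; exact hb
    haveI : (h.qsub.map π).Normal := by
      refine Subgroup.Normal.map ⟨fun b hb a => ?_⟩ π (QuotientGroup.mk'_surjective _)
      show inQ (h.pi (a * b * a⁻¹))
      rw [h.pi_mul, h.pi_mul, h.pi_inv]
      exact inQ_facts.2.2.2 _ _ hb
    refine OneBlock.mem_principal_of_constrained hM (Q := h.qsub.map π) ?_ ?_ θ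
    · rintro ⟨_, b, hb, rfl⟩
      refine ⟨2, Subtype.ext ?_⟩
      show (π b) ^ 4 = 1
      rw [← map_pow, QuotientGroup.mk'_apply, QuotientGroup.eq_one_iff]
      have := (h.pi_eq_iff 1 (b ^ 4)).1 (by rw [h.pi_one, h.pi_pow]; exact hb.1.symm)
      simpa using this
    · intro x hx
      obtain ⟨a, rfl⟩ := QuotientGroup.mk'_surjective h.ψ.ker x
      refine ⟨a, inQ_self _ fun j hj => ?_, rfl⟩
      obtain ⟨b, rfl⟩ := h.pi_surj j
      have := mem_centralizer_iff.1 hx (π b) ⟨b, hj, rfl⟩
      rw [← map_mul, ← map_mul] at this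
      rw [← h.pi_mul, ← h.pi_mul]
      exact (h.pi_eq_iff _ _).2 (QuotientGroup.eq.1 this)

theorem Core.blockCoeff_principal (hM : IsPModular 2 M) (a : centralizer ({t} : Set G)) :
    blockCoeff (principalBlock M (centralizer ({t} : Set G))) a =
      if a ∈ h.ψ.ker then ((Nat.card h.ψ.ker : ℂ))⁻¹ else 0 := by
  classical
  haveI := hM.2.1
  letI := Fintype.ofFinite (centralizer ({t} : Set G) ⧸ h.ψ.ker)
  letI := Fintype.ofFinite (IrrCharacter (centralizer ({t} : Set G)))
  letI := Fintype.ofFinite (IrrCharacter (centralizer ({t} : Set G) ⧸ h.ψ.ker))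
  have hsum : ∑ᶠ η ∈ principalBlock M (centralizer ({t} : Set G)),
      (η : centralizer ({t} : Set G) → ℂ) 1 * conj ((η : centralizer ({t} : Set G) → ℂ) a) =
      ∑ θ : IrrCharacter (centralizer ({t} : Set G) ⧸ h.ψ.ker),
        (θ : centralizer ({t} : Set G) ⧸ h.ψ.ker → ℂ) 1 *
          conj ((θ : centralizer ({t} : Set G) ⧸ h.ψ.ker → ℂ) (a : centralizer ({t} : Set G) ⧸ h.ψ.ker)) := by
    rw [finsum_mem_eq_finite_toFinset_sum _ (Set.toFinite _)]
    symm
    refine Finset.sum_bij (fun θ _ => inflQ θ) (fun θ _ => ?_) (fun θ _ θ' _ e => ?_) (fun η hη => ?_)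
      (fun θ _ => by rw [inflQ_apply, inflQ_apply, QuotientGroup.mk_one])
    · rw [Set.Finite.mem_toFinset, h.principal_iff hM]
      intro v hv
      rw [inflQ_apply, inflQ_apply, (QuotientGroup.eq_one_iff v).2 hv, QuotientGroup.mk_one]
    · refine Subtype.ext (funext fun x => ?_)
      obtain ⟨b, rfl⟩ := QuotientGroup.mk_surjective x
      exact congrFun (congrArg Subtype.val e) b
    · rw [Set.Finite.mem_toFinset, h.principal_iff hM] at hη
      obtain ⟨θ, hθ⟩ := exists_deflate (N := h.ψ.ker) η hη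
      exact ⟨θ, Finset.mem_univ _, Subtype.ext (funext hθ)⟩
  have hm : (Nat.card h.ψ.ker : ℂ) ≠ 0 := Nat.cast_ne_zero.2 Nat.card_pos.ne'
  rw [blockCoeff, hsum, sum_irr_mul_conj]
  simp only [isConj_one_right, QuotientGroup.eq_one_iff]
  split_ifs
  · rw [show Subgroup.centralizer ({(1 : centralizer ({t} : Set G) ⧸ h.ψ.ker)} : Set _) = ⊤ from
      eq_top_iff.2 fun x _ => mem_centralizer_singleton_iff.2 (by simp), Nat.card_congr Subgroup.topEquiv.toEquiv,
      ← Subgroup.index_eq_card, ← Subgroup.card_mul_index h.ψ.ker]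
    have hi : (h.ψ.ker.index : ℂ) ≠ 0 := Nat.cast_ne_zero.2 (Subgroup.index_ne_zero_of_finite)
    push_cast
    field_simp
  · rw [mul_zero]

theorem Core.induces (h : Core t) (hM : IsPModular 2 M) :
    IsInducedBlock M (centralizer ({t} : Set G)) (principalBlock M (centralizer ({t} : Set G)))
      (principalBlock M G) := by
  classical
  haveI : Fact (Nat.Prime 2) := ⟨Nat.prime_two⟩
  haveI := hM.2.1
  have ht : orderOf t = 2 := orderOf_eq_prime (by rw [pow_two]; exact h.invol.1) h.invol.2
  have hP : IsPGroup 2 (zpowers t) := IsPGroup.of_card (n := 1) (by rw [Nat.card_zpowers, ht, pow_one])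
  have hCP : centralizer (zpowers t : Set G) = centralizer ({t} : Set G) := by
    rw [zpowers_eq_closure, centralizer_closure]
  obtain ⟨B, hB⟩ := exists_inducedBlock hP hCP.le (hCP ▸ centralizer_le_normalizer _) hM
    (zpowers_le.2 (mem_centralizer_singleton_iff.2 rfl)) (isPBlock_principalBlock (M := M))
  rwa [← (isInducedBlock_principal_iff hM hB).2 rfl]

/-- Outside the principal block the sums over the cosets of the kernel in the section of `t`
vanish. -/
theorem Core.coset_sum [Fintype h.ψ.ker] (hM : IsPModular 2 M) {χ : IrrCharacter G} (hχ : χ ∉ principalBlock M G)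
    {a : centralizer ({t} : Set G)} (ha : inS (h.pi a)) :
    ∑ v : h.ψ.ker, (χ : G → ℂ) (((v : centralizer ({t} : Set G)) : G) * (a : G)) = 0 := by
  classical
  haveI : Fact (Nat.Prime 2) := ⟨Nat.prime_two⟩
  haveI := hM.2.1
  obtain ⟨z, hz⟩ := exists_isPPart (p := 2) hM.1 (a : G)
  obtain ⟨k, hk⟩ := h.exists_pow ha
  have hC : ∀ w : G, Commute w z → w ∈ centralizer ({t} : Set G) := by
    intro w hw
    obtain ⟨y, hzy, hc, -, hy⟩ := hz
    obtain ⟨e, he⟩ := Nat.odd_iff.2 (Nat.two_dvd_ne_zero.1 hy)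
    have h1 : z ^ (k * orderOf y) = t := by
      have h2 : (a : G) ^ (k * orderOf y) = z ^ (k * orderOf y) := by
        rw [← hzy, hc.mul_pow, mul_comm k, pow_mul y, pow_orderOf_eq_one, one_pow, mul_one]
      rw [← h2, pow_mul, hk, he, pow_succ, pow_mul, pow_two, h.invol.1, one_pow, one_mul]
    exact mem_centralizer_singleton_iff.2 (h1 ▸ hw.pow_right _).eq
  have h0 := second_main_theorem hM (h.induces hM) (h := a) hz hC hχ
  simp only [h.blockCoeff_principal hM, ite_mul, zero_mul] at h0
  rw [← Finset.sum_filter, ← Finset.mul_sum] at h0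
  have h1 := (mul_eq_zero.1 h0).resolve_left (inv_ne_zero (Nat.cast_ne_zero.2 Nat.card_pos.ne'))
  rw [← Finset.sum_subtype (Finset.univ.filter (· ∈ h.ψ.ker)) (fun x => by simp)
    (fun v : centralizer ({t} : Set G) => (χ : G → ℂ) ((v : G) * (a : G)))]
  exact h1

/-- The column of `t` in the principal block. -/
theorem Core.column (h : Core t) (hM : IsPModular 2 M) [Fintype (IrrCharacter G)] :
    ∑ χ ∈ (principalBlock M G).toFinite.toFinset, Complex.normSq ((χ : G → ℂ) t) = 48 := by
  classical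
  haveI : Fact (Nat.Prime 2) := ⟨Nat.prime_two⟩
  haveI := hM.2.1
  letI := Fintype.ofFinite (IrrCharacter (centralizer ({t} : Set G)))
  have ht : orderOf t = 2 := orderOf_eq_prime (by rw [pow_two]; exact h.invol.1) h.invol.2
  have h1 := sum_principal_secFun hM (x := t) (C := centralizer ({t} : Set G)) ⟨1, by rw [ht, pow_one]⟩
    (fun w => mem_centralizer_singleton_iff) (y := 1) (z := 1) (by simp) (by simp)
  have hm : (Nat.card h.ψ.ker : ℂ) ≠ 0 := Nat.cast_ne_zero.2 Nat.card_pos.ne'
  have hb := h.blockCoeff_principal hM 1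
  rw [if_pos (one_mem _), blockCoeff, h.card_centralizer] at hb
  rw [finsum_mem_eq_finite_toFinset_sum _ (Set.toFinite _)] at h1
  simp only [Subgroup.coe_one, mul_one, Complex.mul_conj] at h1
  apply Complex.ofReal_injective
  push_cast
  rw [h1]
  simp only [← Complex.mul_conj]
  push_cast at hb
  field_simp at hb
  linear_combination hb

/-- In the principal block the values on such a coset are constant. -/
theorem Core.const_of_commute (hM : IsPModular 2 M) {χ : IrrCharacter G} (hχ : χ ∈ principalBlock M G)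
    {q : centralizer ({t} : Set G)} (hq : ∃ k, orderOf (q : G) = 2 ^ k)
    (hC : ∀ w : G, Commute w (q : G) → w ∈ centralizer ({t} : Set G)) {v : centralizer ({t} : Set G)}
    (hv : v ∈ h.ψ.ker) (hc : Commute v q) :
    (χ : G → ℂ) ((q : G) * (v : G)) = (χ : G → ℂ) (q : G) := by
  classical
  haveI : Fact (Nat.Prime 2) := ⟨Nat.prime_two⟩
  haveI := hM.2.1
  set C := centralizer ({(q : G)} : Set G) with hCdef
  have hle : C ≤ centralizer ({t} : Set G) := fun w hw => hC w (mem_centralizer_singleton_iff.1 hw)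
  letI := Fintype.ofFinite C
  letI := Fintype.ofFinite (IrrCharacter C)
  let N : Subgroup C := h.ψ.ker.comap (Subgroup.inclusion hle)
  have hN : ¬ 2 ∣ Nat.card N := fun hd => h.ker_not_dvd (hd.trans
    (Subgroup.card_comap_dvd_of_injective _ _ (Subgroup.inclusion_injective hle)))
  have hvC : (v : G) ∈ C := mem_centralizer_singleton_iff.2 (congrArg Subtype.val hc.eq)
  have := CfsgLib.Invol.irr_secElt_mul hM (x := (q : G)) (C := C) hq
    (fun w => mem_centralizer_singleton_iff) hχ N hN (y := 1) (n := ⟨v, hvC⟩)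
    (show Subgroup.inclusion hle ⟨v, hvC⟩ ∈ h.ψ.ker from hv) (by simp) ?_
  · simpa using this
  · rw [one_mul]
    intro hd
    refine h.ker_not_dvd (hd.trans ?_)
    rw [Subgroup.orderOf_mk, Subgroup.orderOf_coe, ← Subgroup.orderOf_mk v hv]
    exact orderOf_dvd_natCard _

end CfsgLib.Char.GLThreeCore
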