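import Cfsg.Agent.Lib.Char.GLThreeCent.Local

/-!
# An involution centralizer with quotient `GL(2, 3)` by a subgroup of odd order
-/

open Subgroup

set_option autoImplicit false
set_option linter.unusedSectionVars false
set_option linter.style.haveILetI false

namespace CfsgLib.Char.GLThreeCore

open Cfsg CfsgLib.Char.GLThreeCent

universe u

/-- The coded elements of `GL(2, 3)`. -/
def glI (i : Fin 48) : GL (Fin 2) (ZMod 3) :=
  ⟨gMat i, gMat (invI i), (gMat_inv i).1, (gMat_inv i).2⟩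

theorem glI_mul (i j : Fin 48) : glI (mulI i j) = glI i * glI j := Units.ext (gMat_mul i j)

theorem glI_bijective : Function.Bijective glI := by
  haveI : Fact (Nat.Prime 3) := ⟨Nat.prime_three⟩
  refine (Nat.bijective_iff_injective_and_card glI).2
    ⟨fun i j h => gMat_inj i j (congrArg Units.val h), ?_⟩
  rw [Nat.card_fin, Matrix.card_GL_field]
  simp [Fin.prod_univ_two]

/-- The code of an element. -/
noncomputable def code (x : GL (Fin 2) (ZMod 3)) : Fin 48 := (Equiv.ofBijective _ glI_bijective).symm x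

theorem glI_code (x : GL (Fin 2) (ZMod 3)) : glI (code x) = x :=
  (Equiv.ofBijective _ glI_bijective).apply_symm_apply x

theorem code_glI (i : Fin 48) : code (glI i) = i :=
  (Equiv.ofBijective _ glI_bijective).symm_apply_apply i

theorem code_mul (x y : GL (Fin 2) (ZMod 3)) : code (x * y) = mulI (code x) (code y) := by
  conv_lhs => rw [← glI_code x, ← glI_code y, ← glI_mul, code_glI]

variable {G : Type u} [Group G]

/-- The centralizer of `t` has quotient `GL(2, 3)` by a group of odd order; the involutions form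
one class. -/
structure Core (t : G) where
  ψ : centralizer ({t} : Set G) →* GL (Fin 2) (ZMod 3)
  surj : Function.Surjective ψ
  odd : Odd (Nat.card ψ.ker)
  invol : t * t = 1 ∧ t ≠ 1
  map_t : ψ ⟨t, mem_centralizer_singleton_iff.2 rfl⟩ = glI tI
  conj : ∀ x : G, x * x = 1 → x ≠ 1 → IsConj t x
  not32 : ¬ 32 ∣ Nat.card G

variable {t : G} (h : Core t)

/-- The image code. -/
noncomputable def Core.pi (a : centralizer ({t} : Set G)) : Fin 48 := code (h.ψ a)

/-- The element `t` of its centralizer. -/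
def tC (t : G) : centralizer ({t} : Set G) := ⟨t, mem_centralizer_singleton_iff.2 rfl⟩

theorem Core.pi_mul (a b : centralizer ({t} : Set G)) : h.pi (a * b) = mulI (h.pi a) (h.pi b) := by
  rw [Core.pi, map_mul, code_mul]; rfl

theorem Core.pi_t : h.pi (tC t) = tI := by
  rw [Core.pi, show h.ψ (tC t) = glI tI from h.map_t, code_glI]

theorem Core.pi_one : h.pi 1 = oneI := by
  refine eq_oneI _ ?_
  rw [← h.pi_mul, one_mul]

theorem Core.pi_inv (a : centralizer ({t} : Set G)) : h.pi a⁻¹ = invI (h.pi a) := by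
  have hcancel : ∀ i j : Fin 48, mulI i j = oneI → j = invI i := by decide +kernel
  exact hcancel _ _ (by rw [← h.pi_mul, mul_inv_cancel, h.pi_one])

theorem Core.pi_pow (a : centralizer ({t} : Set G)) (n : ℕ) : h.pi (a ^ n) = powI (h.pi a) n := by
  induction n with
  | zero => rw [pow_zero, h.pi_one, powI]
  | succ n ih => rw [pow_succ, h.pi_mul, ih, powI]

theorem Core.pi_eq_iff (a b : centralizer ({t} : Set G)) : h.pi a = h.pi b ↔ a⁻¹ * b ∈ h.ψ.ker := by
  rw [MonoidHom.mem_ker, map_mul, map_inv, inv_mul_eq_one, Core.pi, Core.pi]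
  exact (Equiv.ofBijective _ glI_bijective).symm.injective.eq_iff

theorem Core.pi_surj : Function.Surjective h.pi := fun i => by
  obtain ⟨a, ha⟩ := h.surj (glI i)
  exact ⟨a, by rw [Core.pi, ha, code_glI]⟩

theorem Core.kpow [Finite G] {v : centralizer ({t} : Set G)} (hv : v ∈ h.ψ.ker) :
    v ^ Nat.card h.ψ.ker = 1 := by
  exact congrArg Subtype.val (pow_card_eq_one' (x := (⟨v, hv⟩ : h.ψ.ker)))

theorem tC_comm (a : centralizer ({t} : Set G)) : Commute a (tC t) :=
  Subtype.ext (mem_centralizer_singleton_iff.1 a.2)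

/-- The exceptional set. -/
def Core.exc : Set G := {x | ∃ a : centralizer ({t} : Set G), inS (h.pi a) ∧ (a : G) = x}

/-- An element of the exceptional set has `t` as a power. -/
theorem Core.exists_pow [Finite G] {a : centralizer ({t} : Set G)} (ha : inS (h.pi a)) :
    ∃ k : ℕ, (a : G) ^ k = t := by
  obtain ⟨k, hk⟩ := ha
  have hv := (h.pi_eq_iff (tC t) (a ^ k.val)).1 (by rw [h.pi_t, h.pi_pow, hk])
  refine ⟨k.val * Nat.card h.ψ.ker, ?_⟩
  have h1 := h.kpow hv
  rw [(((tC_comm (a ^ k.val)).symm).inv_left).mul_pow, inv_pow, inv_mul_eq_one] at h1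
  have h2 : (tC t) ^ Nat.card h.ψ.ker = tC t := by
    obtain ⟨c, hc⟩ := h.odd
    rw [hc, pow_succ, pow_mul, show (tC t) ^ 2 = 1 from Subtype.ext (by
      rw [pow_two]; exact h.invol.1), one_pow, one_mul]
  rw [h2, ← pow_mul] at h1
  exact (congrArg Subtype.val h1).symm

/-- A cyclic group has one involution. -/
theorem pow_invol_unique {H : Type*} [Group H] [Finite H] {y : H} {r s : ℕ}
    (hr : y ^ r * y ^ r = 1 ∧ y ^ r ≠ 1) (hs : y ^ s * y ^ s = 1 ∧ y ^ s ≠ 1) : y ^ r = y ^ s := by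
  have key : ∀ r : ℕ, y ^ r * y ^ r = 1 → y ^ r ≠ 1 →
      ∃ c, Odd c ∧ orderOf y % 2 = 0 ∧ y ^ r = (y ^ (orderOf y / 2)) ^ c := by
    intro r hr hr1
    have hd : orderOf y ∣ r + r := orderOf_dvd_of_pow_eq_one (by rw [pow_add]; exact hr)
    have hn : ¬ orderOf y ∣ r := fun hd => hr1 (orderOf_dvd_iff_pow_eq_one.1 hd)
    obtain ⟨c, hc⟩ := hd
    have hodd : Odd c := by
      rcases Nat.even_or_odd c with ⟨e, rfl⟩ | ho
      · exact absurd ⟨e, by rw [mul_add] at hc; omega⟩ hn
      · exact ho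
    have he : orderOf y % 2 = 0 := by
      obtain ⟨e, rfl⟩ := hodd
      have : (orderOf y * (2 * e + 1)) % 2 = 0 := by omega
      rw [Nat.mul_mod, show (2 * e + 1) % 2 = 1 by omega, mul_one, Nat.mod_mod] at this
      exact this
    refine ⟨c, hodd, he, ?_⟩
    rw [← pow_mul]
    congr 1
    obtain ⟨o, ho⟩ : ∃ o, orderOf y = 2 * o := ⟨orderOf y / 2, by omega⟩
    rw [ho, Nat.mul_assoc] at hc
    rw [ho, Nat.mul_div_cancel_left o two_pos]
    omega
  obtain ⟨c, hc, he, e1⟩ := key r hr.1 hr.2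
  obtain ⟨d, hd, -, e2⟩ := key s hs.1 hs.2
  have h2 : (y ^ (orderOf y / 2)) ^ 2 = 1 := by
    rw [← pow_mul, show orderOf y / 2 * 2 = orderOf y by omega, pow_orderOf_eq_one]
  obtain ⟨c', rfl⟩ := hc
  obtain ⟨d', rfl⟩ := hd
  rw [e1, e2, pow_succ, pow_succ, pow_mul, pow_mul, h2, one_pow, one_pow]

theorem Core.conj_mem [Finite G] {g x : G} (hx : x ∈ h.exc) (hgx : g * x * g⁻¹ ∈ h.exc) :
    g ∈ centralizer ({t} : Set G) := by
  obtain ⟨a, ha, rfl⟩ := hx
  obtain ⟨b, hb, he⟩ := hgx
  obtain ⟨r, hr⟩ := h.exists_pow ha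
  obtain ⟨s, hs⟩ := h.exists_pow hb
  have h1 : (b : G) ^ r = g * t * g⁻¹ := by rw [he, conj_pow, hr]
  have h2 := pow_invol_unique (y := (b : G)) (r := r) (s := s)
    ⟨by rw [h1, show g * t * g⁻¹ * (g * t * g⁻¹) = g * (t * t) * g⁻¹ by group, h.invol.1]; group,
      by rw [h1]; exact fun e => h.invol.2 (conj_eq_one_iff.1 e)⟩
    ⟨by rw [hs, h.invol.1], by rw [hs]; exact h.invol.2⟩
  rw [h1, hs] at h2
  exact mem_centralizer_singleton_iff.2 (mul_inv_eq_iff_eq_mul.1 h2)

theorem Core.mem_normalizer_exc [Finite G] {g : G} :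
    g ∈ normalizer h.exc ↔ g ∈ centralizer ({t} : Set G) := by
  have htE : t ∈ h.exc := ⟨tC t, by rw [h.pi_t]; exact tI_inS, rfl⟩
  refine ⟨fun hg => h.conj_mem htE ((Subgroup.mem_set_normalizer_iff.1 hg t).1 htE), fun hg => ?_⟩
  rw [Subgroup.mem_set_normalizer_iff]
  have key : ∀ (c : centralizer ({t} : Set G)) (x : G), x ∈ h.exc →
      (c : G) * x * (c : G)⁻¹ ∈ h.exc := by
    rintro c _ ⟨a, ha, rfl⟩
    exact ⟨c * a * c⁻¹, by rw [h.pi_mul, h.pi_mul, h.pi_inv]; exact inS_conj _ _ ha, by simp⟩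
  intro x
  refine ⟨fun hx => key ⟨g, hg⟩ x hx, fun hx => ?_⟩
  have := key ⟨g, hg⟩⁻¹ _ hx
  simpa [mul_assoc] using this

theorem Core.normalizer_exc [Finite G] : normalizer h.exc = centralizer ({t} : Set G) :=
  Subgroup.ext fun _ => h.mem_normalizer_exc

theorem Core.exc_ti [Finite G] :
    ∀ g : G, g ∉ normalizer h.exc → ∀ x ∈ h.exc, g * x * g⁻¹ ∈ h.exc → x = 1 :=
  fun _ hg _ hx hgx => absurd (h.mem_normalizer_exc.2 (h.conj_mem hx hgx)) hg

/-- A fibre of the coding has the order of the kernel. -/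
theorem Core.card_fibre (i : Fin 48) :
    Nat.card {a : centralizer ({t} : Set G) // h.pi a = i} = Nat.card h.ψ.ker := by
  obtain ⟨b, rfl⟩ := h.pi_surj i
  exact Nat.card_congr
    { toFun := fun a => ⟨b⁻¹ * a, (h.pi_eq_iff b a).1 a.2.symm⟩
      invFun := fun v => ⟨b * v, ((h.pi_eq_iff b _).2 (by simp)).symm⟩
      left_inv := fun a => Subtype.ext (by simp)
      right_inv := fun v => Subtype.ext (by simp) }

theorem Core.sum_pi [Finite G] [Fintype (centralizer ({t} : Set G))] {R : Type*} [CommSemiring R]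
    (F : Fin 48 → R) :
    ∑ a : centralizer ({t} : Set G), F (h.pi a) = (Nat.card h.ψ.ker : R) * ∑ i, F i := by
  classical
  rw [← Finset.sum_fiberwise Finset.univ h.pi, Finset.mul_sum]
  refine Finset.sum_congr rfl fun i _ => ?_
  rw [Finset.sum_congr rfl (g := fun _ => F i) fun a ha => by rw [(Finset.mem_filter.1 ha).2],
    Finset.sum_const, nsmul_eq_mul]
  congr 2
  rw [← h.card_fibre i, Nat.card_eq_fintype_card, Fintype.card_subtype]

theorem Core.card_centralizer [Finite G] :
    Nat.card (centralizer ({t} : Set G)) = Nat.card h.ψ.ker * 48 := by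
  haveI := Fintype.ofFinite (centralizer ({t} : Set G))
  have := h.sum_pi (R := ℕ) (fun _ => 1)
  simpa [Nat.card_eq_fintype_card] using this

theorem outer_code : ∀ i : Fin 48, isInv i → i ≠ tI → ∀ j : Fin 48, isInv j → j ≠ tI →
    ∃ k : Fin 48, mulI (mulI k i) (invI k) = j := by decide +kernel

/-- The number of involutions over an outer involution of the quotient. -/
noncomputable def Core.lifts : ℕ :=
  Nat.card {a : centralizer ({t} : Set G) // h.pi a = 13 ∧ a * a = 1}

/-- All outer involutions have the same number of lifts. -/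
theorem Core.card_lifts [Finite G] {i : Fin 48} (hi : isInv i) (hne : i ≠ tI) :
    Nat.card {a : centralizer ({t} : Set G) // h.pi a = i ∧ a * a = 1} = h.lifts := by
  obtain ⟨k, hk⟩ := outer_code 13 (by decide +kernel) (by decide +kernel) i hi hne
  obtain ⟨b, rfl⟩ := h.pi_surj k
  refine (Nat.card_congr ((MulAut.conj b).toEquiv.subtypeEquiv fun a => ?_)).symm
  have hinj : ∀ i j k : Fin 48, mulI (mulI k i) (invI k) = mulI (mulI k j) (invI k) → i = j := by
    intro i j k e
    have hc : ∀ k i : Fin 48, mulI (mulI (invI k) (mulI (mulI k i) (invI k))) k = i := by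
      decide +kernel
    rw [← hc k i, e, hc]
  show _ ↔ h.pi (b * a * b⁻¹) = i ∧ b * a * b⁻¹ * (b * a * b⁻¹) = 1
  rw [h.pi_mul, h.pi_mul, h.pi_inv, ← hk, show b * a * b⁻¹ * (b * a * b⁻¹) = b * (a * a) * b⁻¹ by group,
    conj_eq_one_iff]
  exact and_congr_left fun _ => ⟨fun e => by rw [e], hinj _ _ _⟩

/-- This number is odd, as inversion permutes the fibre. -/
theorem Core.lifts_odd [Finite G] : Odd h.lifts := by
  classical
  haveI : Fact (Nat.Prime 2) := ⟨Nat.prime_two⟩
  let F := {a : centralizer ({t} : Set G) // h.pi a = 13}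
  haveI := Fintype.ofFinite F
  have h13 : invI (13 : Fin 48) = 13 := by decide +kernel
  let f : F → F := fun a => ⟨a.1⁻¹, by rw [h.pi_inv, a.2, h13]⟩
  have hmod := Equiv.Perm.card_fixedPoints_modEq (p := 2) (n := 1) (f := f) (funext fun a =>
    Subtype.ext (by
      show ((f^[2]) a).1 = a.1
      simp [f]))
  have hfix : Fintype.card (Function.fixedPoints f) = h.lifts := by
    rw [← Nat.card_eq_fintype_card, Core.lifts]
    exact Nat.card_congr
      { toFun := fun a => ⟨a.1.1, a.1.2, mul_eq_one_iff_eq_inv.2 (congrArg Subtype.val a.2).symm⟩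
        invFun := fun a => ⟨⟨a.1, a.2.1⟩, Subtype.ext (mul_eq_one_iff_eq_inv.1 a.2.2).symm⟩
        left_inv := fun _ => rfl
        right_inv := fun _ => rfl }
  rw [hfix, ← Nat.card_eq_fintype_card, h.card_fibre 13, Nat.ModEq, Nat.odd_iff.1 h.odd] at hmod
  exact Nat.odd_iff.2 hmod.symm

/-- The involutions of the centralizer. -/
theorem Core.invol_iff [Finite G] (a : centralizer ({t} : Set G)) :
    (a * a = 1 ∧ a ≠ 1) ↔ (a = tC t ∨ (isInv (h.pi a) ∧ h.pi a ≠ tI ∧ a * a = 1)) := by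
  constructor
  · rintro ⟨haa, ha1⟩
    have hsq : mulI (h.pi a) (h.pi a) = oneI := by rw [← h.pi_mul, haa, h.pi_one]
    by_cases h1 : h.pi a = oneI
    · exfalso
      rw [← h.pi_one] at h1
      have hker : a ∈ h.ψ.ker := by simpa using (h.pi_eq_iff 1 a).1 h1.symm
      refine ha1 ?_
      have h2 := h.kpow hker
      obtain ⟨c, hc⟩ := h.odd
      rwa [hc, pow_succ, pow_mul, pow_two, haa, one_pow, one_mul] at h2
    by_cases h2 : h.pi a = tI
    · left
      have hv := (h.pi_eq_iff (tC t) a).1 (by rw [h.pi_t, h2])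
      have h3 := h.kpow hv
      obtain ⟨c, hc⟩ := h.odd
      have ht2 : tC t * tC t = 1 := Subtype.ext h.invol.1
      have hsq' : ((tC t)⁻¹ * a) ^ 2 = 1 := by
        rw [(tC_comm a).symm.inv_left.mul_pow, inv_pow, pow_two, pow_two, ht2, haa, inv_one, one_mul]
      rw [hc, pow_succ, pow_mul, hsq', one_pow, one_mul, inv_mul_eq_one] at h3
      exact h3.symm
    · exact Or.inr ⟨⟨hsq, h1⟩, h2, haa⟩
  · rintro (rfl | ⟨hi, -, haa⟩)
    · exact ⟨Subtype.ext h.invol.1, fun e => h.invol.2 (congrArg Subtype.val e)⟩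
    · exact ⟨haa, fun e => hi.2 (by rw [e, h.pi_one])⟩

theorem Core.invol_conj [Finite G] (h : Core t) (a : centralizer ({t} : Set G)) :
    IsConj t (a : G) ↔ (a * a = 1 ∧ a ≠ 1) := by
  constructor
  · intro hc
    obtain ⟨c, hc⟩ := isConj_iff.1 hc
    refine ⟨Subtype.ext ?_, fun e => ?_⟩
    · rw [Subgroup.coe_mul, ← hc, show c * t * c⁻¹ * (c * t * c⁻¹) = c * (t * t) * c⁻¹ by group,
        h.invol.1, Subgroup.coe_one]
      group
    · rw [e, Subgroup.coe_one] at hc
      exact h.invol.2 (conj_eq_one_iff.1 hc)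
  · rintro ⟨haa, ha1⟩
    exact h.conj _ (congrArg Subtype.val haa) (fun e => ha1 (Subtype.ext e))

/-- Sums over the involutions. -/
theorem Core.sum_invol [Finite G] [Fintype (centralizer ({t} : Set G))]
    [Fintype {a : centralizer ({t} : Set G) // IsConj t (a : G)}] {R : Type*} [CommSemiring R]
    (F : Fin 48 → R) :
    ∑ a : {a : centralizer ({t} : Set G) // IsConj t (a : G)}, F (h.pi a.1) =
      F tI + (h.lifts : R) * ∑ i, if isInv i ∧ i ≠ tI then F i else 0 := by
  classical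
  set s := Finset.univ.filter fun a : centralizer ({t} : Set G) =>
    isInv (h.pi a) ∧ h.pi a ≠ tI ∧ a * a = 1 with hs
  have hfib : ∑ a ∈ s, F (h.pi a) = (h.lifts : R) * ∑ i, if isInv i ∧ i ≠ tI then F i else 0 := by
    rw [← Finset.sum_fiberwise s h.pi, Finset.mul_sum]
    refine Finset.sum_congr rfl fun i _ => ?_
    rw [Finset.sum_congr rfl (g := fun _ => F i) fun a ha => by rw [(Finset.mem_filter.1 ha).2],
      Finset.sum_const, nsmul_eq_mul]
    split_ifs with hi
    · congr 2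
      rw [← h.card_lifts hi.1 hi.2, Nat.card_eq_fintype_card, Fintype.card_subtype, hs,
        Finset.filter_filter]
      exact congrArg Finset.card (Finset.filter_congr fun a _ =>
        ⟨fun e => ⟨e.2, e.1.2.2⟩, fun e => ⟨⟨e.1 ▸ hi.1, e.1 ▸ hi.2, e.2⟩, e.1⟩⟩)
    · rw [Finset.card_eq_zero.2, Nat.cast_zero, zero_mul, mul_zero]
      rw [hs, Finset.filter_filter, Finset.filter_eq_empty_iff]
      exact fun a _ e => hi (e.2 ▸ ⟨e.1.1, e.1.2.1⟩)
  rw [← hfib, show F tI = F (h.pi (tC t)) by rw [h.pi_t],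
    ← Finset.sum_insert (f := fun a => F (h.pi a)) (s := s) (a := tC t) (by simp [hs, h.pi_t])]
  refine (Finset.sum_subtype _ (fun a => ?_) (fun a => F (h.pi a))).symm
  rw [Finset.mem_insert, hs, Finset.mem_filter, h.invol_conj, h.invol_iff]
  simp

end CfsgLib.Char.GLThreeCore
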