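import Cfsg.Agent.Lib.Char.GLThreeCore.Block
import Cfsg.Agent.Lib.Char.GLThreeCent.Induced

/-!
# The induced functions, with a kernel of odd order
-/

open Subgroup Finset
open scoped ComplexConjugate

set_option autoImplicit false
set_option linter.unusedSectionVars false
set_option linter.style.haveILetI false

namespace CfsgLib.Char.GLThreeCore

open Cfsg CfsgLib.Char CfsgLib.Char.Signed CfsgLib.Char.GLThreeCent

universe u

variable {G : Type u} [Group G] [Fintype G] {t : G} (h : Core t)

theorem Core.normal_le {x : G} (hx : x ∈ normalizer h.exc) : x ∈ centralizer ({t} : Set G) :=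
  h.mem_normalizer_exc.1 hx

/-- The identification with the centralizer. -/
noncomputable def Core.toC' : normalizer h.exc ≃* centralizer ({t} : Set G) :=
  MulEquiv.subgroupCongr h.normalizer_exc

theorem Core.coe_toC' (x : normalizer h.exc) : ((h.toC' x : centralizer ({t} : Set G)) : G) = x := rfl

/-- A coded function on the local subgroup. -/
noncomputable def Core.fn (f : Fin 48 → ℤ√(-2)) : normalizer h.exc → ℂ :=
  fun x => toC (f (h.pi (h.toC' x)))

theorem Core.gen_fv (k : Fin 4) : Gen (h.fn (fv k)) := by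
  let g : normalizer h.exc →* Matrix (Fin 2) (Fin 2) ℂ :=
    { toFun := fun x => (psiMat (h.pi (h.toC' x))).map toC
      map_one' := by rw [map_one, h.pi_one, psiMat_one]; simp
      map_mul' := fun x y => by rw [map_mul, h.pi_mul, psiMat_mul, Matrix.map_mul] }
  let ρ : Representation ℂ (normalizer h.exc) (Fin 2 → ℂ) :=
    (Matrix.toLinAlgEquiv' (R := ℂ) (n := Fin 2)).toMonoidHom.comp g
  have hψ : IsCharacter (normalizer h.exc) (h.fn chPsi) := by
    refine ⟨2, ρ, funext fun x => ?_⟩
    show LinearMap.trace ℂ _ (Matrix.toLin' (g x)) = _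
    rw [Matrix.trace_toLin'_eq]
    simp [g, Core.fn, chPsi, Matrix.trace_fin_two]
  let s : normalizer h.exc →* ℂ :=
    { toFun := fun x => toC (sgn (h.pi (h.toC' x)))
      map_one' := by rw [map_one, h.pi_one, sgn_one, map_one]
      map_mul' := fun x y => by rw [map_mul, h.pi_mul, sgn_mul, map_mul] }
  have hψg : Gen (h.fn chPsi) := isGeneralizedCharacter_of_isCharacter hψ
  have hψc : Gen (fun x => conj (h.fn chPsi x)) :=
    isGeneralizedCharacter_of_isCharacter (isCharacter_conj hψ)
  have hs : Gen (h.fn sgn) :=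
    isGeneralizedCharacter_of_isCharacter (isCharacter_of_isIrr (isIrrCharacter_lin s.toHomUnits))
  have h1 : Gen (h.fn fun _ => 1) := by
    refine (funext fun x => ?_ : h.fn (fun _ => 1) = fun _ => 1) ▸
      isGeneralizedCharacter_of_isCharacter (isCharacter_of_isIrr isIrrCharacter_one)
    simp [Core.fn]
  have hadd : ∀ {a b : Fin 48 → ℤ√(-2)}, Gen (h.fn a) → Gen (h.fn b) →
      Gen (h.fn fun i => a i + b i) := fun {a b} ha hb => by
    refine (funext fun x => ?_ : h.fn (fun i => a i + b i) = h.fn a + h.fn b) ▸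
      isGeneralizedCharacter_add ha hb
    simp [Core.fn]
  have hsub : ∀ {a b : Fin 48 → ℤ√(-2)}, Gen (h.fn a) → Gen (h.fn b) →
      Gen (h.fn fun i => a i - b i) := fun {a b} ha hb => by
    refine (funext fun x => ?_ : h.fn (fun i => a i - b i) = h.fn a - h.fn b) ▸
      isGeneralizedCharacter_sub ha hb
    simp [Core.fn]
  have hmul : ∀ {a b : Fin 48 → ℤ√(-2)}, Gen (h.fn a) → Gen (h.fn b) →
      Gen (h.fn fun i => a i * b i) := fun {a b} ha hb => by
    refine (funext fun x => ?_ : h.fn (fun i => a i * b i) = h.fn a * h.fn b) ▸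
      isGeneralizedCharacter_mul ha hb
    simp [Core.fn]
  have h3' : Gen (h.fn chThree') := hsub (hmul hψg (by
    refine (funext fun x => ?_ : h.fn (fun i => star (chPsi i)) = fun x => conj (h.fn chPsi x)) ▸ hψc
    simp [Core.fn, conj_toC])) h1
  have h3 : Gen (h.fn chThree) := hmul hs h3'
  have h2 : Gen (h.fn chTwo) := hsub (hsub (hsub (hmul h3 h3) h1) h3) h3'
  have h4 : Gen (h.fn chFour) := hmul hψg h2
  fin_cases k
  · exact hsub (hadd h1 h2) h3
  · exact hsub (hadd h1 hψg) h3
  · exact hsub (hadd h1 h3') h4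
  · exact hsub (hadd hs h2) h3'

/-- The induced functions. -/
noncomputable def Core.ind (k : Fin 4) : G → ℂ := indFun (normalizer h.exc) (h.fn (fv k))

theorem Core.gen_ind (k : Fin 4) : Gen (h.ind k) :=
  isGeneralizedCharacter_indFun _ (h.gen_fv k)

theorem Core.fn_support (k : Fin 4) :
    ∀ x : normalizer h.exc, (x : G) ∉ h.exc → h.fn (fv k) x = 0 := fun x hx => by
  rw [Core.fn, fv_support k _ fun hi => hx ⟨h.toC' x, hi, rfl⟩, map_zero]

theorem Core.fn_one (k : Fin 4) : h.fn (fv k) 1 = 0 := by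
  rw [Core.fn, map_one, h.pi_one, fv_one, map_zero]

theorem Core.ind_one (k : Fin 4) : h.ind k 1 = 0 := by
  rw [Core.ind, indFun_one, h.fn_one, mul_zero]

theorem Core.ind_t (k : Fin 4) : h.ind k t = toC (fv k tI) := by
  have htn : t ∈ normalizer h.exc := h.mem_normalizer_exc.2 (mem_centralizer_singleton_iff.2 rfl)
  have := indFun_TI_apply h.exc h.exc_ti (h.fn (fv k))
    (isClassFunction_of_isGeneralized (h.gen_fv k)) (h.fn_support k) ⟨t, htn⟩
    ⟨tC t, by rw [h.pi_t]; exact tI_inS, rfl⟩ (fun e => h.invol.2 (congrArg Subtype.val e))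
  rw [Core.ind, this, Core.fn]
  have e : h.toC' ⟨t, htn⟩ = tC t := Subtype.ext rfl
  rw [e, h.pi_t]

theorem Core.sum_fn [Fintype (normalizer h.exc)] (F : Fin 48 → ℤ√(-2)) :
    ∑ x : normalizer h.exc, toC (F (h.pi (h.toC' x))) = (Nat.card h.ψ.ker : ℂ) * toC (∑ i, F i) := by
  letI := Fintype.ofFinite (centralizer ({t} : Set G))
  rw [map_sum, ← h.sum_pi (fun i => toC (F i))]
  exact h.toC'.toEquiv.sum_comp (fun a => toC (F (h.pi a)))

theorem Core.card_normalizer : (Nat.card (normalizer h.exc) : ℂ) = (Nat.card h.ψ.ker : ℂ) * 48 := by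
  rw [Nat.card_congr h.toC'.toEquiv, h.card_centralizer]
  push_cast; rfl

theorem Core.inner_ind (k l : Fin 4) : classInner (h.ind k) (h.ind l) = (gram k l : ℂ) := by
  letI := Fintype.ofFinite (normalizer h.exc)
  rw [Core.ind, Core.ind, classInner_indFun_TI h.exc h.exc_ti _ _
    (isClassFunction_of_isGeneralized (h.gen_fv l)) (h.fn_support k) (h.fn_support l) (h.fn_one k),
    classInner, h.card_normalizer]
  simp only [Core.fn, conj_toC, ← map_mul]
  rw [h.sum_fn (fun i => fv k i * star (fv l i)), fv_gram k l, map_mul, map_intCast, map_ofNat]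
  have hm : (Nat.card h.ψ.ker : ℂ) ≠ 0 := Nat.cast_ne_zero.2 Nat.card_pos.ne'
  field_simp

theorem Core.inner_ind_one (k : Fin 4) :
    classInner (h.ind k) (fun _ => 1) = if k = 3 then 0 else 1 := by
  letI := Fintype.ofFinite (normalizer h.exc)
  rw [Core.ind, classInner_indFun _ _ _ (fun _ _ => rfl), classInner, h.card_normalizer]
  simp only [Core.fn, map_one, mul_one]
  rw [h.sum_fn, fv_sum k]
  have hm : (Nat.card h.ψ.ker : ℂ) ≠ 0 := Nat.cast_ne_zero.2 Nat.card_pos.ne'
  split
  · simp
  · rw [map_ofNat]; field_simp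

/-- The constituents lie in the principal block. -/
theorem Core.inner_eq_zero {M : Ideal AlgInt} (hM : IsPModular 2 M) (k : Fin 4) {χ : IrrCharacter G}
    (hχ : χ ∉ principalBlock M G) : classInner (h.ind k) (χ : G → ℂ) = 0 := by
  classical
  letI := Fintype.ofFinite (normalizer h.exc)
  letI := Fintype.ofFinite (centralizer ({t} : Set G))
  letI := Fintype.ofFinite h.ψ.ker
  rw [Core.ind, classInner_indFun _ _ _ (isClassFunction_irr χ), classInner]
  refine mul_eq_zero_of_right _ ?_
  simp only [Core.fn]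
  rw [show (∑ x : normalizer h.exc, toC (fv k (h.pi (h.toC' x))) * conj ((χ : G → ℂ) (x : G))) =
      ∑ a : centralizer ({t} : Set G), toC (fv k (h.pi a)) * conj ((χ : G → ℂ) (a : G)) from
    h.toC'.toEquiv.sum_comp (fun a => toC (fv k (h.pi a)) * conj ((χ : G → ℂ) (a : G))),
    ← Finset.sum_fiberwise Finset.univ h.pi]
  refine Finset.sum_eq_zero fun i _ => ?_
  rw [Finset.sum_congr rfl (g := fun a : centralizer ({t} : Set G) =>
    toC (fv k i) * conj ((χ : G → ℂ) (a : G))) fun a ha => by rw [(Finset.mem_filter.1 ha).2],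
    ← Finset.mul_sum]
  by_cases hi : inS i
  swap
  · rw [fv_support k i hi, map_zero, zero_mul]
  obtain ⟨b, rfl⟩ := h.pi_surj i
  refine mul_eq_zero_of_right _ ?_
  rw [← map_sum, map_eq_zero, ← h.coset_sum hM hχ hi]
  refine Finset.sum_bij' (fun a ha => (⟨a * b⁻¹, ?_⟩ : h.ψ.ker))
    (fun v _ => (v : centralizer ({t} : Set G)) * b) (fun a _ => Finset.mem_univ _)
    (fun v _ => ?_) (fun a _ => by simp) (fun v _ => Subtype.ext (by simp)) (fun a _ => by simp)
  · have h1 := (h.pi_eq_iff b a).1 (Finset.mem_filter.1 ha).2.symm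
    have h2 := Subgroup.Normal.conj_mem (inferInstance : h.ψ.ker.Normal) _ h1 b
    rwa [show b * (b⁻¹ * a) * b⁻¹ = a * b⁻¹ by group] at h2
  · rw [Finset.mem_filter]
    refine ⟨Finset.mem_univ _, ?_⟩
    rw [h.pi_mul, (h.pi_eq_iff 1 (v : centralizer ({t} : Set G))).2 (by simp) |>.symm, h.pi_one]
    exact (by decide +kernel : ∀ i, mulI oneI i = i) _

/-- The values of the class algebra functional. -/
theorem Core.qfun_ind (k : Fin 4) :
    (Nat.card G : ℂ) * qfun t (h.ind k) =
      (Nat.card h.ψ.ker : ℂ) * (h.lifts : ℂ) ^ 2 * if k = 2 then 9216 else 4608 := by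
  classical
  letI := Fintype.ofFinite (normalizer h.exc)
  letI := Fintype.ofFinite (centralizer ({t} : Set G))
  have hloc : ∀ x : normalizer h.exc, h.fn (fv k) x ≠ 0 → ∀ y z : G, IsConj t y → IsConj t z →
      y * z = (x : G) → y ∈ normalizer h.exc := by
    intro x hx y z hy hz hyz
    obtain ⟨a, ha, hax⟩ : (x : G) ∈ h.exc := by
      by_contra hc
      exact hx (h.fn_support k x hc)
    have hsq : ∀ w : G, IsConj t w → w⁻¹ = w := fun w hw => by
      obtain ⟨c, rfl⟩ := isConj_iff.1 hw
      refine inv_eq_of_mul_eq_one_right ?_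
      rw [show c * t * c⁻¹ * (c * t * c⁻¹) = c * (t * t) * c⁻¹ by group, h.invol.1]
      group
    refine h.mem_normalizer_exc.2 (h.conj_mem (x := (a : G)) ⟨a, ha, rfl⟩ ⟨a⁻¹, ?_, ?_⟩)
    · rw [h.pi_inv]; exact (by decide +kernel : ∀ i, inS i → inS (invI i)) _ ha
    · have hyy : y * y = 1 := by nth_rw 1 [← hsq y hy]; exact inv_mul_cancel y
      rw [Subgroup.coe_inv, hax, ← hyz, _root_.mul_inv_rev, hsq z hz, hsq y hy, ← mul_assoc, hyy,
        one_mul]
  obtain ⟨C, -, hC, he⟩ := qfun_indFun (normalizer h.exc) t (h.fn (fv k)) hloc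
  rw [Core.ind, he, hC, h.card_normalizer]
  let E : {a : centralizer ({t} : Set G) // IsConj t (a : G)} ≃
      {y : normalizer h.exc // IsConj t (y : G)} :=
    (h.toC'.symm.toEquiv.subtypeEquiv fun _ => Iff.rfl)
  have hsum : ∑ᶠ p : {y : normalizer h.exc // IsConj t (y : G)} ×
      {y : normalizer h.exc // IsConj t (y : G)}, h.fn (fv k) (p.1.1 * p.2.1) =
      (h.lifts : ℂ) ^ 2 * if k = 2 then 192 else 96 := by
    rw [← finsum_comp_equiv (E.prodCongr E), finsum_eq_sum_of_fintype, Fintype.sum_prod_type]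
    simp only [Equiv.prodCongr_apply, Prod.map_fst, Prod.map_snd, E, Equiv.subtypeEquiv_apply,
      MulEquiv.toEquiv_eq_coe, MulEquiv.coe_toEquiv, Core.fn, map_mul, MulEquiv.apply_symm_apply,
      h.pi_mul]
    set o : Fin 48 → Prop := fun i => isInv i ∧ i ≠ tI
    have hz1 : ∀ (k : Fin 4) i, isInv i ∧ i ≠ tI → fv k (mulI tI i) = 0 ∧ fv k (mulI i tI) = 0 := by
      decide +kernel
    have hz0 : ∀ k : Fin 4, fv k (mulI tI tI) = 0 := by decide +kernel
    have hout : ∀ k : Fin 4, (∑ i, if isInv i ∧ i ≠ tI then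
        (∑ j, if isInv j ∧ j ≠ tI then fv k (mulI i j) else 0) else 0) =
        if k = 2 then 192 else 96 := by decide +kernel
    have inner : ∀ i : Fin 48, ∑ b : {a : centralizer ({t} : Set G) // IsConj t (a : G)},
        toC (fv k (mulI i (h.pi b.1))) = toC (fv k (mulI i tI)) + (h.lifts : ℂ) *
          ∑ j, if isInv j ∧ j ≠ tI then toC (fv k (mulI i j)) else 0 := fun i =>
      h.sum_invol (fun j => toC (fv k (mulI i j)))
    simp only [inner]
    rw [h.sum_invol (fun i => toC (fv k (mulI i tI)) + (h.lifts : ℂ) *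
      ∑ j, if isInv j ∧ j ≠ tI then toC (fv k (mulI i j)) else 0)]
    have e1 : (∑ j, if isInv j ∧ j ≠ tI then toC (fv k (mulI tI j)) else 0) = 0 :=
      Finset.sum_eq_zero fun j _ => by
        split_ifs with hj
        · rw [(hz1 k j hj).1, map_zero]
        · rfl
    rw [e1, hz0 k, map_zero, mul_zero, add_zero, zero_add,
      Finset.sum_congr rfl (g := fun i => (h.lifts : ℂ) * toC (if isInv i ∧ i ≠ tI then
        (∑ j, if isInv j ∧ j ≠ tI then fv k (mulI i j) else 0) else 0)) fun i _ => by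
        split_ifs with hi
        · rw [(hz1 k i hi).2, map_zero, zero_add, map_sum]
          refine congrArg _ (Finset.sum_congr rfl fun j _ => ?_)
          split_ifs <;> simp
        · simp,
      ← Finset.mul_sum, ← map_sum, hout k, ← mul_assoc, ← pow_two]
    split <;> simp [map_ofNat]
  have hk : Nat.card G = Nat.card h.ψ.ker * 48 * Nat.card {x : G // IsConj t x} := by
    rw [card_isConj, ← Subgroup.card_mul_index (Subgroup.centralizer ({t} : Set G)),
      h.card_centralizer]
  have hc0 : (Nat.card {x : G // IsConj t x} : ℂ) ≠ 0 := by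
    have : Nonempty {x : G // IsConj t x} := ⟨⟨t, IsConj.refl t⟩⟩
    exact_mod_cast Nat.card_pos.ne'
  have hm : (Nat.card h.ψ.ker : ℂ) ≠ 0 := Nat.cast_ne_zero.2 Nat.card_pos.ne'
  rw [hsum, hk]
  push_cast
  field_simp
  split <;> ring

end CfsgLib.Char.GLThreeCore
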