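import Cfsg.Agent.Lib.Char.GLThreeCore.Main
import Cfsg.Agent.Lib.Char.Determine
import Cfsg.Agent.Lib.Char.Integrality
import Cfsg.Agent.Lib.Char.CliffordOdd
import Cfsg.Agent.Lib.Char.Linear

/-!
# The kernel is trivial in a simple group
-/

open Subgroup Module Finset
open scoped ComplexConjugate

set_option autoImplicit false
set_option linter.unusedSectionVars false
set_option linter.style.haveILetI false

namespace CfsgLib.Char.GLThreeCore

open Cfsg CfsgLib.Block CfsgLib.Char CfsgLib.Char.Signed CfsgLib.Char.GLThreeCent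

universe u

/-- A faithful irreducible character of a simple group. -/
theorem ne_degree_of_simple {G : Type u} [Group G] [Fintype G] [IsSimpleGroup G] (χ : IrrCharacter G)
    {N : ℕ} (hN : (χ : G → ℂ) 1 = N) (h1 : 1 < N) {g : G} (hg : g ≠ 1) : (χ : G → ℂ) g ≠ N := by
  intro he
  obtain ⟨n, ρ, hρ, hχ⟩ := χ.2
  have hd : (finrank ℂ (Fin n → ℂ) : ℂ) = N := by
    rw [← hN, ← hχ, Representation.char_one]
  have hmem : g ∈ ρ.ker := by
    rw [← hχ] at he
    exact MonoidHom.mem_ker.2 ((char_eq_degree_iff ρ g).1 (he.trans hd.symm))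
  rcases (MonoidHom.normal_ker ρ).eq_bot_or_eq_top with hb | ht
  · exact hg (by rwa [hb, Subgroup.mem_bot] at hmem)
  · have hall : ∀ x, (χ : G → ℂ) x = N := fun x => by
      rw [← hχ, ← hd]
      exact (char_eq_degree_iff ρ x).2 (MonoidHom.mem_ker.1 (ht ▸ Subgroup.mem_top x))
    have h := classInner_irr_self χ
    rw [classInner] at h
    simp only [hall, map_natCast, Finset.sum_const, Finset.card_univ, ← Nat.card_eq_fintype_card,
      nsmul_eq_mul] at h
    rw [← mul_assoc, inv_mul_cancel₀ (Nat.cast_ne_zero.2 Nat.card_pos.ne'), one_mul] at h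
    have h' : N * N = 1 := by exact_mod_cast h
    have := Nat.eq_one_of_mul_eq_one_right h'
    omega

variable {G : Type u} [Group G] [Fintype G] {t : G} (h : Core t)

theorem Core.card_qsub [Fintype (centralizer ({t} : Set G))] :
    Nat.card h.qsub = Nat.card h.ψ.ker * 8 := by
  classical
  have h1 := h.sum_pi (R := ℕ) (fun i => if inQ i then 1 else 0)
  rw [show (∑ i : Fin 48, if inQ i then 1 else 0) = 8 by decide +kernel] at h1
  rw [Nat.cast_id] at h1
  rw [← h1, Finset.sum_boole, Nat.cast_id, Nat.card_eq_fintype_card]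
  convert Fintype.card_subtype (fun a : centralizer ({t} : Set G) => inQ (h.pi a)) using 1
  exact Fintype.card_congr (Equiv.refl _)

/-- The kernel is trivial when it commutes with the quaternion part and some element fixes none of
its elements but the identity. -/
theorem Core.ker_trivial [IsSimpleGroup G]
    (hcomm : ∀ a, inQ (h.pi a) → (∃ k, orderOf a = 2 ^ k) → ∀ v ∈ h.ψ.ker, Commute v a)
    (g : centralizer ({t} : Set G)) (hg : ∀ w ∈ h.ψ.ker, Commute g w → w = 1) :
    Nat.card h.ψ.ker = 1 := by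
  classical
  haveI : Fact (Nat.Prime 2) := ⟨Nat.prime_two⟩
  letI := Fintype.ofFinite (centralizer ({t} : Set G))
  obtain ⟨M, hM⟩ := exists_pModular (p := 2) Nat.prime_two
  haveI := hM.2.1
  obtain ⟨χ, N, hχ, hN, hN1, hN16⟩ := h.exists_small hM
  by_contra hne
  obtain ⟨S⟩ : Nonempty (Sylow 2 h.qsub) := inferInstance
  set Qs := (S : Subgroup h.qsub).map h.qsub.subtype with hQs
  have hQcard : Nat.card Qs = 8 := by
    rw [hQs, Nat.card_congr (Subgroup.equivMapOfInjective _ _ h.qsub.subtype_injective).toEquiv.symm,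
      S.card_eq_multiplicity, h.card_qsub, Nat.factorization_mul Nat.card_pos.ne' (by norm_num),
      Finsupp.add_apply, Nat.factorization_eq_zero_of_not_dvd h.ker_not_dvd, zero_add,
      show (8 : ℕ) = 2 ^ 3 by norm_num, Nat.prime_two.factorization_pow, Finsupp.single_eq_same]
  have hQi : ∀ q : Qs, inQ (h.pi q) := by
    rintro ⟨_, x, -, rfl⟩
    exact x.2
  have hQp : ∀ q : Qs, ∃ k, orderOf (q : centralizer ({t} : Set G)) = 2 ^ k := by
    intro q
    obtain ⟨k, hk, hk'⟩ := (Nat.dvd_prime_pow Nat.prime_two).1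
      (show orderOf q ∣ 2 ^ 3 by rw [show (2 : ℕ) ^ 3 = 8 by norm_num, ← hQcard]; exact orderOf_dvd_natCard q)
    exact ⟨k, by rw [Subgroup.orderOf_coe]; exact hk'⟩
  have hQ1 : ∀ q : Qs, q ≠ 1 → inS (h.pi q) := by
    intro q hq
    refine (by decide +kernel : ∀ i, inQ i → i ≠ oneI → inS i) _ (hQi q) fun e => hq ?_
    have hker : (q : centralizer ({t} : Set G)) ∈ h.ψ.ker := by
      simpa using (h.pi_eq_iff 1 q).1 (by rw [h.pi_one, e])
    obtain ⟨k, hk⟩ := hQp q
    have hdvd : orderOf (q : centralizer ({t} : Set G)) ∣ Nat.card h.ψ.ker := by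
      rw [← Subgroup.orderOf_mk (q : centralizer ({t} : Set G)) hker]
      exact orderOf_dvd_natCard _
    rw [hk] at hdvd
    rcases Nat.eq_zero_or_pos k with rfl | hpos
    · exact Subtype.ext (orderOf_eq_one_iff.1 hk)
    · exact absurd ((dvd_pow_self 2 hpos.ne').trans hdvd) h.ker_not_dvd
  let Φ : Qs × h.ψ.ker →* G :=
    (centralizer ({t} : Set G)).subtype.comp (MonoidHom.noncommCoprod Qs.subtype h.ψ.ker.subtype
      fun q v => (hcomm _ (hQi q) (hQp q) v v.2).symm)
  have hΦ : ∀ q v, Φ (q, v) =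
      ((q : centralizer ({t} : Set G)) : G) * ((v : centralizer ({t} : Set G)) : G) := fun q v => by
    show ((Qs.subtype.noncommCoprod h.ψ.ker.subtype
      (fun q v => (hcomm _ (hQi q) (hQp q) v v.2).symm) (q, v) : centralizer ({t} : Set G)) : G) = _
    rfl
  set φ : h.ψ.ker → ℂ := fun v => (χ : G → ℂ) ((v : centralizer ({t} : Set G)) : G) with hφ
  have hφc : IsCharacter h.ψ.ker φ :=
    isCharacter_comp (isCharacter_irr χ) ((centralizer ({t} : Set G)).subtype.comp h.ψ.ker.subtype)
  letI := Fintype.ofFinite h.ψ.ker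
  letI := Fintype.ofFinite (IrrCharacter h.ψ.ker)
  letI := Fintype.ofFinite Qs
  -- multiplicities divisible by eight
  have key : ∀ lam : IrrCharacter h.ψ.ker, lam ≠ oneChar h.ψ.ker →
      ∃ c : ℕ, classInner φ (lam : h.ψ.ker → ℂ) = ((8 * c : ℕ) : ℂ) := by
    intro lam hlam
    have hL : IsIrrCharacter (Qs × h.ψ.ker) (fun p => (lam : h.ψ.ker → ℂ) p.2) :=
      isIrrCharacter_comp_surjective lam.2 (MonoidHom.snd Qs h.ψ.ker) Prod.snd_surjective
    obtain ⟨c, hc⟩ := classInner_isCharacter (isCharacter_comp (isCharacter_irr χ) Φ)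
      (isCharacter_of_isIrr hL)
    refine ⟨c, ?_⟩
    have hsum : ∑ v : h.ψ.ker, conj ((lam : h.ψ.ker → ℂ) v) = 0 := by
      have := classInner_irr_ne (χ := oneChar h.ψ.ker) (ψ := lam) (fun e => hlam e.symm)
      rw [classInner] at this
      rcases mul_eq_zero.1 this with h0 | h0
      · exact absurd h0 (inv_ne_zero (Nat.cast_ne_zero.2 Nat.card_pos.ne'))
      · simpa [oneChar] using h0
    rw [classInner] at hc
    rw [Fintype.sum_prod_type, Finset.sum_eq_single (1 : Qs) (fun q _ hq => ?_) (by simp),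
      Nat.card_prod, hQcard] at hc
    swap
    · obtain ⟨k, hk⟩ := h.exists_pow (hQ1 q hq)
      obtain ⟨e, he⟩ := hQp q
      have hconst : ∀ v : h.ψ.ker, (χ : G → ℂ) (Φ (q, v)) =
          (χ : G → ℂ) ((q : centralizer ({t} : Set G)) : G) := fun v => by
        rw [hΦ]
        exact h.const_of_commute hM hχ ⟨e, by rw [Subgroup.orderOf_coe]; exact he⟩
          (fun w hw => mem_centralizer_singleton_iff.2 (hk ▸ hw.pow_right k).eq) v.2
          (hcomm _ (hQi q) (hQp q) v v.2)
      simp only [hconst, ← Finset.mul_sum, hsum, mul_zero]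
    rw [Finset.sum_congr rfl (g := fun v => φ v * conj ((lam : h.ψ.ker → ℂ) v))
      (fun v _ => by rw [hΦ, hφ, Subgroup.coe_one, Subgroup.coe_one, one_mul])] at hc
    rw [classInner]
    push_cast at hc ⊢
    rw [mul_inv, mul_comm ((8 : ℂ))⁻¹, mul_assoc] at hc
    linear_combination 8 * hc
  -- the expansion
  obtain ⟨d, hd, hexp, -⟩ := generalized_expand (isGeneralizedCharacter_of_isCharacter hφc)
  choose dl hdl0 hdl using fun lam : IrrCharacter h.ψ.ker => isIrrCharacter_degree lam.2
  have hd0 : ∀ lam, 0 ≤ d lam := fun lam => by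
    obtain ⟨c, hc⟩ := classInner_isCharacter hφc (isCharacter_irr lam)
    rw [hd] at hc
    have : d lam = (c : ℤ) := by exact_mod_cast hc
    omega
  have hdeg : ∑ lam, d lam * (dl lam : ℤ) = N := by
    have h1 := congrFun hexp 1
    simp only [hφ, Subgroup.coe_one, hN, Finset.sum_apply, Pi.smul_apply, smul_eq_mul, hdl] at h1
    exact_mod_cast h1.symm
  -- some nontrivial constituent
  obtain ⟨lam, hlam, hdl1⟩ : ∃ lam, lam ≠ oneChar h.ψ.ker ∧ d lam ≠ 0 := by
    by_contra! hall
    haveI : Nontrivial h.ψ.ker := Finite.one_lt_card_iff_nontrivial.1 (by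
      have := Nat.card_pos (α := h.ψ.ker); omega)
    obtain ⟨v, hv⟩ := exists_ne (1 : h.ψ.ker)
    refine ne_degree_of_simple χ hN hN1
      (g := ((v : centralizer ({t} : Set G)) : G)) (by simpa using hv) ?_
    have hv' := congrFun hexp v
    have h1 := congrFun hexp 1
    simp only [hφ, Subgroup.coe_one, hN, Finset.sum_apply, Pi.smul_apply, smul_eq_mul] at h1 hv'
    rw [hv', h1]
    refine Finset.sum_congr rfl fun μ _ => ?_
    by_cases hμ : μ = oneChar h.ψ.ker
    · subst hμ; rfl
    · simp [hall μ hμ]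
  obtain ⟨c, hc⟩ := key lam hlam
  rw [hd] at hc
  have h8 : 8 ≤ d lam := by
    have h' : d lam = ((8 * c : ℕ) : ℤ) := by exact_mod_cast hc
    omega
  -- its conjugate
  set σ : MulAut h.ψ.ker := MulAut.conjNormal g with hσ
  let mu : IrrCharacter h.ψ.ker := ⟨fun v => (lam : h.ψ.ker → ℂ) (σ v),
    isIrrCharacter_comp_surjective lam.2 σ.toMonoidHom σ.surjective⟩
  have hφσ : ∀ v, φ (σ v) = φ v := fun v =>
    classFun_isConj (isClassFunction_irr χ) (isConj_iff.2 ⟨((g⁻¹ : centralizer ({t} : Set G)) : G), by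
      simp [hσ, mul_assoc]⟩)
  have hdmu : d mu = d lam := by
    have h1 : classInner φ (mu : h.ψ.ker → ℂ) = classInner φ (lam : h.ψ.ker → ℂ) := by
      simp only [classInner, mu]
      rw [← σ.toEquiv.sum_comp (fun v => φ v * conj ((lam : h.ψ.ker → ℂ) v))]
      simp [hφσ]
    rw [hd, hd] at h1
    exact_mod_cast h1
  by_cases hne' : mu = lam
  swap
  · have h16 : d lam * (dl lam : ℤ) + d mu * (dl mu : ℤ) ≤ ∑ μ, d μ * (dl μ : ℤ) := by
      rw [← Finset.sum_pair (f := fun μ => d μ * (dl μ : ℤ)) (Ne.symm hne')]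
      exact Finset.sum_le_sum_of_subset_of_nonneg (Finset.subset_univ _) fun μ _ _ =>
        mul_nonneg (hd0 μ) (by positivity)
    rw [hdeg, hdmu] at h16
    have := hdl0 lam; have := hdl0 mu
    have : d lam ≤ d lam * (dl lam : ℤ) := le_mul_of_one_le_right (hd0 _) (by omega)
    have : d lam ≤ d lam * (dl mu : ℤ) := le_mul_of_one_le_right (hd0 _) (by omega)
    omega
  · -- an invariant constituent has degree at least two
    have h16 : d lam * (dl lam : ℤ) ≤ ∑ μ, d μ * (dl μ : ℤ) :=
      Finset.single_le_sum (f := fun μ => d μ * (dl μ : ℤ))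
        (fun μ _ => mul_nonneg (hd0 μ) (by positivity)) (Finset.mem_univ _)
    rw [hdeg] at h16
    have hone : dl lam = 1 := by
      by_contra h2
      have := hdl0 lam
      have : 8 * 2 ≤ d lam * (dl lam : ℤ) := mul_le_mul h8 (by omega) (by norm_num) (hd0 _)
      omega
    have h1 : (lam : h.ψ.ker → ℂ) 1 = 1 := by rw [hdl, hone, Nat.cast_one]
    have hmul : ∀ u v : h.ψ.ker,
        (lam : h.ψ.ker → ℂ) (u * v) = (lam : h.ψ.ker → ℂ) u * (lam : h.ψ.ker → ℂ) v := by
      obtain ⟨f, hf⟩ := (linearCharEquiv (G := h.ψ.ker)).surjective ⟨lam, h1⟩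
      obtain rfl : _ = lam := congrArg Subtype.val hf
      intro u v
      show (f (u * v) : ℂ) = f u * f v
      rw [map_mul, Units.val_mul]
    have hbij : Function.Bijective fun v : h.ψ.ker => v⁻¹ * σ v :=
      Finite.injective_iff_bijective.1 fun u v e => by
        refine (mul_inv_eq_one.1 (Subtype.ext ?_) : u = v)
        refine hg _ (u * v⁻¹).2 ?_
        have e2 : σ (u * v⁻¹) = u * v⁻¹ := by
          rw [map_mul, map_inv, eq_mul_of_inv_mul_eq (e : u⁻¹ * σ u = v⁻¹ * σ v)]
          group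
        exact mul_inv_eq_iff_eq_mul.1 (congrArg Subtype.val e2)
    apply hlam
    refine Subtype.ext (funext fun w => ?_)
    obtain ⟨v, rfl⟩ := hbij.2 w
    show (lam : h.ψ.ker → ℂ) (v⁻¹ * σ v) = 1
    rw [hmul, show (lam : h.ψ.ker → ℂ) (σ v) = (lam : h.ψ.ker → ℂ) v from
      congrFun (congrArg Subtype.val hne') v, ← hmul, inv_mul_cancel, h1]

end CfsgLib.Char.GLThreeCore
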