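import Cfsg.Agent.Lib.Char.GLThreeCore.Induced
import Cfsg.Agent.Lib.Char.GLThreeCent.Main

/-!
# A small degree in the principal block
-/

open Subgroup

set_option autoImplicit false
set_option linter.unusedSectionVars false
set_option linter.style.haveILetI false
set_option maxHeartbeats 800000

namespace CfsgLib.Char.GLThreeCore

open Cfsg CfsgLib.Block CfsgLib.Char CfsgLib.Char.Signed CfsgLib.Char.GLThreeCent

universe u

variable {G : Type u} [Group G] [Fintype G] {t : G}

/-- Two orthogonal signed irreducible characters are not both multiples of one irreducible. -/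
theorem one_of_two {u w : G → ℂ} (hu : Sg u) (hw : Sg w) (huw : iq u w = 0) (χ : IrrCharacter G) :
    classInner u (χ : G → ℂ) = 0 ∨ classInner w (χ : G → ℂ) = 0 := by
  obtain ⟨α, a, ha, rfl⟩ := hu.exists_irr
  obtain ⟨β, b, hb, rfl⟩ := hw.exists_irr
  by_cases h1 : α = χ
  · subst h1
    right
    rw [classInner_smul_left]
    refine mul_eq_zero_of_right _ (classInner_irr_ne fun e => ?_)
    subst e
    rw [iq_smul_left (Sg.of_irr β).gen hw.gen, iq_smul_right (Sg.of_irr β).gen (Sg.of_irr β).gen,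
      (Sg.of_irr β).iq_self] at huw
    rcases ha with rfl | rfl <;> rcases hb with rfl | rfl <;> simp at huw
  · left
    rw [classInner_smul_left]
    exact mul_eq_zero_of_right _ (classInner_irr_ne h1)

theorem exists_member {M : Ideal AlgInt} (_hM : IsPModular 2 M) {l : List (G → ℂ)} (hl : Orth l)
    (hB : ∀ v ∈ l, ∀ χ : IrrCharacter G, χ ∉ principalBlock M G → classInner v (χ : G → ℂ) = 0)
    {v : G → ℂ} (hv : v ∈ l) :
    ∃ (χ : IrrCharacter G) (ε : ℤ), (χ ∈ principalBlock M G ∧ (ε = 1 ∨ ε = -1)) ∧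
      ((ε = 1 ∨ ε = -1) ∧ v = (ε : ℂ) • (χ : G → ℂ)) := by
  obtain ⟨χ, ε, hε, rfl⟩ := (hl.1 v hv).exists_irr
  refine ⟨χ, ε, ⟨?_, hε⟩, hε, rfl⟩
  by_contra hn
  have := hB _ hv χ hn
  rw [classInner_smul_left, classInner_irr_self, mul_one] at this
  rcases hε with rfl | rfl <;> simp at this

theorem degree_of {v : G → ℂ} {χ : IrrCharacter G} {ε : ℤ}
    (hv : (ε = 1 ∨ ε = -1) ∧ v = (ε : ℂ) • (χ : G → ℂ)) {z : ℤ} (hz : v 1 = (z : ℂ)) {N : ℕ}
    (hN : z.natAbs = N) : (χ : G → ℂ) 1 = N := by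
  obtain ⟨d, -, hd⟩ := isIrrCharacter_degree χ.2
  obtain ⟨hε, rfl⟩ := hv
  rw [Pi.smul_apply, smul_eq_mul, hd] at hz
  have h2 : ε * d = z := by exact_mod_cast hz
  rw [hd, ← hN, ← h2, Int.natAbs_mul]
  rcases hε with rfl | rfl <;> simp

/-- The column of `t` bounds signed constituents in the principal block. -/
theorem column_le_block {M : Ideal AlgInt} (hM : IsPModular 2 M) (h : Core t) {l : List (G → ℂ)}
    (hl : Orth l)
    (hB : ∀ v ∈ l, ∀ χ : IrrCharacter G, χ ∉ principalBlock M G → classInner v (χ : G → ℂ) = 0) :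
    (l.map fun v => Complex.normSq (v t)).sum ≤ (48 : ℝ) := by
  classical
  haveI := Fintype.ofFinite (IrrCharacter G)
  letI := Fintype.ofFinite (centralizer ({t} : Set G))
  suffices hs : ∃ s : Finset (IrrCharacter G),
      (∀ χ ∈ s, χ ∈ principalBlock M G ∧ ∃ v ∈ l, iq v (χ : G → ℂ) ≠ 0) ∧
        (l.map fun v => Complex.normSq (v t)).sum =
          ∑ χ ∈ s, Complex.normSq ((χ : G → ℂ) t) by
    obtain ⟨s, hs1, hs⟩ := hs
    rw [hs, ← h.column hM]
    exact Finset.sum_le_sum_of_subset_of_nonneg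
      (fun χ hχ => by simpa using (hs1 χ hχ).1) fun χ _ _ => Complex.normSq_nonneg _
  induction l with
  | nil => exact ⟨∅, by simp, by simp⟩
  | cons v l ih =>
    obtain ⟨hsg, hp⟩ := hl
    rw [List.pairwise_cons] at hp
    obtain ⟨s, hs, hsum⟩ := ih ⟨fun y hy => hsg y (List.mem_cons_of_mem _ hy), hp.2⟩
      fun y hy => hB y (List.mem_cons_of_mem _ hy)
    obtain ⟨χ, ε, ⟨hmem, hε⟩, -, hv⟩ := exists_member hM (l := v :: l)
      ⟨hsg, List.pairwise_cons.2 hp⟩ hB List.mem_cons_self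
    have hiq : iq v (χ : G → ℂ) = ε := by
      rw [hv, iq_smul_left (Sg.of_irr χ).gen (Sg.of_irr χ).gen, (Sg.of_irr χ).iq_self, mul_one]
    have hχ : χ ∉ s := by
      intro hmem'
      obtain ⟨-, y, hy, hyχ⟩ := hs χ hmem'
      have hyg := (hsg y (List.mem_cons_of_mem _ hy)).gen
      have h0 := hp.1 y hy
      rw [hv, iq_smul_left (Sg.of_irr χ).gen hyg, iq_comm (Sg.of_irr χ).gen hyg] at h0
      rcases hε with rfl | rfl <;> omega
    refine ⟨insert χ s, fun η hη => ?_, ?_⟩
    · rcases Finset.mem_insert.1 hη with rfl | h'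
      · exact ⟨hmem, v, List.mem_cons_self, by rw [hiq]; omega⟩
      · obtain ⟨hm', y, hy, hyη⟩ := hs η h'
        exact ⟨hm', y, List.mem_cons_of_mem _ hy, hyη⟩
    · rw [Finset.sum_insert hχ, List.map_cons, List.sum_cons, hsum, hv]
      congr 1
      rcases hε with rfl | rfl <;> simp

theorem degrees_of {g x y m : ℤ} (hm : Odd m) (h16 : 16 ∣ g) (h32 : ¬ 32 ∣ g)
    (hA : y = x + 1 ∨ y * (x - 8) = -9 * x)
    (hB : 2 * (x ^ 2 - 4 * x + 4) * (y * (y + 1)) = (y ^ 2 - 6 * y + 9) * (x * (x + 1)))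
    (hg : g * (x ^ 2 - 4 * x + 4) = m * 4608 * (x * (x + 1))) :
    (x = 10 ∧ y = -45) ∨ (x = 26 ∧ y = -13) ∨ (x = 0 ∨ x = -1) := by
  obtain ⟨w, hw⟩ := hm
  rw [hw] at hg
  rcases hA with rfl | hA
  · have h0 : (x + 1) * ((x - 2) ^ 2 * (x + 4)) = 0 := by linear_combination hB
    rcases mul_eq_zero.1 h0 with h | h
    · omega
    rcases mul_eq_zero.1 h with h | h
    · obtain rfl : x = 2 := by have := pow_eq_zero_iff (two_ne_zero) |>.1 h; omega
      omega
    · obtain rfl : x = -4 := by omega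
      omega
  · have hd : x - 8 ∣ 72 := ⟨-9 - y, by linarith⟩
    have hb1 := Int.le_of_dvd (by norm_num) hd
    have hb2 := Int.le_of_dvd (by norm_num) (neg_dvd.2 hd)
    have hl : -64 ≤ x := by linarith
    have hu : x ≤ 80 := by linarith
    clear hd hb1 hb2 hB
    interval_cases x <;> omega

/-- The principal character and the four induced functions. -/
noncomputable def Core.fam (h : Core t) : ℕ → G → ℂ
  | 0 => fun _ => 1
  | 1 => h.ind 0
  | 2 => h.ind 1
  | 3 => h.ind 2
  | _ => h.ind 3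

theorem Core.exists_small (h : Core t) {M : Ideal AlgInt} (hM : IsPModular 2 M) :
    ∃ (χ : IrrCharacter G) (N : ℕ), χ ∈ principalBlock M G ∧ (χ : G → ℂ) 1 = N ∧ 1 < N ∧ N < 16 := by
  classical
  set m : ℤ := (Nat.card h.ψ.ker : ℤ) * (h.lifts : ℤ) ^ 2 with hmdef
  have g0 : Gen (h.fam 0) :=
    isGeneralizedCharacter_of_isCharacter (isCharacter_of_isIrr isIrrCharacter_one)
  have s0 : Sg (h.fam 0) := Sg.of_irr (⟨fun _ => 1, isIrrCharacter_one⟩ : IrrCharacter G)
  have h10 : ∀ k : Fin 4, iq (h.ind k) (h.fam 0) = if k = 3 then 0 else 1 := fun k => iq_eq _ (by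
    show classInner (h.ind k) (fun _ => 1) = _
    rw [h.inner_ind_one]
    split <;> simp)
  have hkl : ∀ k l : Fin 4, iq (h.ind k) (h.ind l) = gram k l := fun k l =>
    iq_eq _ (h.inner_ind k l)
  obtain ⟨a, c, d, e, f, e1, e2, e3, hcase⟩ := decomp h.fam rfl
    (fun i hi =>
      match i, hi with
      | 0, _ => g0
      | 1, _ => h.gen_ind 0
      | 2, _ => h.gen_ind 1
      | 3, _ => h.gen_ind 2
      | 4, _ => h.gen_ind 3
      | (n + 5), hn => absurd hn (by omega))
    (fun i hi j hj => by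
      match i, j, hi, hj with
      | 0, 0, _, _ => exact s0.iq_self
      | 1, 0, _, _ => exact h10 0
      | 2, 0, _, _ => exact h10 1
      | 3, 0, _, _ => exact h10 2
      | 4, 0, _, _ => exact h10 3
      | 1, 1, _, _ => exact hkl 0 0
      | 2, 1, _, _ => exact hkl 1 0
      | 2, 2, _, _ => exact hkl 1 1
      | 3, 1, _, _ => exact hkl 2 0
      | 3, 2, _, _ => exact hkl 2 1
      | 3, 3, _, _ => exact hkl 2 2
      | 4, 1, _, _ => exact hkl 3 0
      | 4, 2, _, _ => exact hkl 3 1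
      | 4, 3, _, _ => exact hkl 3 2
      | 4, 4, _, _ => exact hkl 3 3
      | 0, (n + 1), _, hn => omega
      | 1, (n + 2), _, hn => omega
      | 2, (n + 3), _, hn => omega
      | 3, (n + 4), _, hn => omega
      | 4, (n + 5), _, hn => omega
      | (m + 5), _, hm, _ => omega)
  obtain ⟨t1, t2, t3, t4⟩ := fv_t
  have tv : ∀ k, h.ind k t = toC (fv k tI) := h.ind_t
  have hmem : ∀ {l : List (G → ℂ)}, Orth l → ∀ v ∈ l,
      Sg v ∧ (∃ X : ℤ, v t = X) ∧ ∃ D : ℤ, D ≠ 0 ∧ v 1 = D := fun {l} hl v hv =>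
    ⟨hl.1 v hv, exists_int_invol (hl.1 v hv).gen h.invol.1, (hl.1 v hv).apply_one_int⟩
  have h6 : Orth [h.fam 0, a, c, d, e, f] := by
    rcases hcase with ⟨ho, -⟩ | ⟨w, ho, -⟩
    · exact ho
    · exact ⟨fun v hv => ho.1 v (by simp only [List.mem_cons] at hv ⊢; tauto),
        ho.2.sublist (List.sublist_append_left [h.fam 0, a, c, d, e, f] [w])⟩
  obtain ⟨sa, ⟨at', hat⟩, A, hA0, hA⟩ := hmem h6 a (by simp)
  obtain ⟨sc, ⟨ct, hct⟩, x, hx0, hx⟩ := hmem h6 c (by simp)
  obtain ⟨sd, ⟨dt, hdt⟩, D, hD0, hD⟩ := hmem h6 d (by simp)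
  obtain ⟨se, ⟨et, het⟩, y, hy0, hy⟩ := hmem h6 e (by simp)
  obtain ⟨sf, ⟨ft, hft⟩, F, hF0, hF⟩ := hmem h6 f (by simp)
  have hB6 : ∀ v ∈ [h.fam 0, a, c, d, e, f], ∀ χ : IrrCharacter G, χ ∉ principalBlock M G →
      classInner v (χ : G → ℂ) = 0 := by
    intro v hv χ hχ
    have hp := h6.2
    simp only [List.pairwise_cons, List.mem_cons, List.not_mem_nil, or_false, forall_eq_or_imp, forall_eq] at hp
    have z0 : classInner (h.fam 0) (χ : G → ℂ) = 0 := by
      show classInner (fun _ => 1) (χ : G → ℂ) = 0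
      refine classInner_irr_ne (χ := oneChar G) fun e' => hχ ?_
      rw [← e']
      haveI := hM.2.1
      exact self_mem_blockOf (M := M) (oneChar G)
    have one : ∀ {u w : G → ℂ}, Sg u → Sg w → iq u w = 0 → classInner u (χ : G → ℂ) = 0 ∨
        classInner w (χ : G → ℂ) = 0 := fun hu hw huw => one_of_two hu hw huw χ
    have n1 := h.inner_eq_zero hM 0 hχ
    have n2 := h.inner_eq_zero hM 1 hχ
    have n3 := h.inner_eq_zero hM 2 hχ
    rw [show h.ind 0 = h.fam 0 + c + d from e1, classInner_add_left, classInner_add_left, z0, zero_add] at n1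
    rw [show h.ind 1 = h.fam 0 + a + d from e2, classInner_add_left, classInner_add_left, z0, zero_add] at n2
    rw [show h.ind 2 = h.fam 0 + e + f from e3, classInner_add_left, classInner_add_left, z0, zero_add] at n3
    have hcd : classInner c (χ : G → ℂ) = 0 ∧ classInner d (χ : G → ℂ) = 0 := by
      rcases one sc sd hp.2.2.1.1 with z | z <;> rw [z] at n1
      · exact ⟨z, by simpa using n1⟩
      · exact ⟨by simpa using n1, z⟩
    have hef : classInner e (χ : G → ℂ) = 0 ∧ classInner f (χ : G → ℂ) = 0 := by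
      rcases one se sf hp.2.2.2.2.1 with z | z <;> rw [z] at n3
      · exact ⟨z, by simpa using n3⟩
      · exact ⟨by simpa using n3, z⟩
    rw [hcd.2, add_zero] at n2
    simp only [List.mem_cons, List.not_mem_nil, or_false] at hv
    rcases hv with rfl | rfl | rfl | rfl | rfl | rfl
    exacts [z0, n2, hcd.1, hcd.2, hef.1, hef.2]
  have k1 : 1 + x + D = 0 ∧ 1 + A + D = 0 ∧ 1 + y + F = 0 := by
    have u1 := congrFun e1 1
    have u2 := congrFun e2 1
    have u3 := congrFun e3 1
    simp only [Core.fam, Pi.add_apply, h.ind_one, hA, hx, hD, hy, hF] at u1 u2 u3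
    exact ⟨by exact_mod_cast u1.symm, by exact_mod_cast u2.symm, by exact_mod_cast u3.symm⟩
  have k2 : 1 + ct + dt = 0 ∧ 1 + at' + dt = -4 ∧ 1 + et + ft = 8 := by
    have u1 := congrFun e1 t
    have u2 := congrFun e2 t
    have u3 := congrFun e3 t
    simp only [Core.fam, Pi.add_apply, tv, t1, t2, t3, map_neg, map_zero, map_ofNat,
      hat, hct, hdt, het, hft] at u1 u2 u3
    exact ⟨by exact_mod_cast u1.symm, by exact_mod_cast u2.symm, by exact_mod_cast u3.symm⟩
  have q0 : qfun t (h.fam 0) = 1 := by rw [qfun_sg t s0]; simp [Core.fam]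
  set g : ℤ := (Nat.card G : ℤ) with hg
  have hgC : (g : ℂ) = (Nat.card G : ℂ) := by rw [hg, Int.cast_natCast]
  have hq : ∀ (k : Fin 4) (p : ℤ) (v : G → ℂ), h.ind k = v →
      ((Nat.card h.ψ.ker : ℂ) * (h.lifts : ℂ) ^ 2 * (if k = 2 then 9216 else 4608 : ℂ) = (p : ℂ)) → (g : ℂ) * qfun t v = p := by
    intro k p v hv hp
    rw [← hv, hgC, h.qfun_ind, hp]
  have q1 := hq 0 (m * 4608) _ e1 (by simp [hmdef])
  have q2 := hq 1 (m * 4608) _ e2 (by simp [hmdef])
  have q3 := hq 2 (m * 9216) _ e3 (by simp [hmdef])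
  rw [qfun_add, qfun_add, q0, qfun_sg t sc, qfun_sg t sd, hct, hdt, hx, hD] at q1
  rw [qfun_add, qfun_add, q0, qfun_sg t sa, qfun_sg t sd, hat, hdt, hA, hD] at q2
  rw [qfun_add, qfun_add, q0, qfun_sg t se, qfun_sg t sf, het, hft, hy, hF] at q3
  have c1 := cleared hx0 hD0 q1
  have c2 := cleared hA0 hD0 q2
  have c3 := cleared hy0 hF0 q3
  have hgpos : 0 < g := by rw [hg]; exact_mod_cast Nat.card_pos
  obtain rfl : x = A := by omega
  obtain rfl : D = -1 - x := by omega
  obtain rfl : F = -1 - y := by omega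
  obtain rfl : dt = -1 - ct := by omega
  obtain rfl : at' = ct - 4 := by omega
  have hct2 : ct = 2 := by
    have : g * (-1 - x) * (8 * ct - 16) = 0 := by linear_combination c1 - c2
    rcases mul_eq_zero.1 this with h' | h'
    · rcases mul_eq_zero.1 h' with h'' | h''
      · omega
      · exact absurd h'' hD0
    · omega
  subst hct2
  obtain rfl : ft = 7 - et := by omega
  have hg1 : g * (x ^ 2 - 4 * x + 4) = m * 4608 * (x * (x + 1)) := by linear_combination -c1
  have hg3 : g * (y * (y + 1) + et ^ 2 * (y + 1) - (7 - et) ^ 2 * y) = m * 9216 * (y * (y + 1)) := by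
    linear_combination -c3
  have hB : 2 * (x ^ 2 - 4 * x + 4) * (y * (y + 1)) =
      (y * (y + 1) + et ^ 2 * (y + 1) - (7 - et) ^ 2 * y) * (x * (x + 1)) := by
    refine mul_left_cancel₀ hgpos.ne' ?_
    linear_combination (2 * (y * (y + 1))) * hg1 - (x * (x + 1)) * hg3
  rcases hcase with ⟨ho, e4⟩ | ⟨w, ho, e4⟩
  · -- impossible shape
    exfalso
    have u4 := congrFun e4 t
    simp only [Core.fam, Pi.sub_apply, tv, t4, map_zero, hat, hdt, het] at u4
    have k4 : (-1 - 2 : ℤ) - (2 - 4) - et = 0 := by exact_mod_cast u4.symm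
    obtain rfl : et = -1 := by omega
    have hcol := column_le_block hM h ho hB6
    simp only [List.map_cons, List.map_nil, List.sum_cons, List.sum_nil, Core.fam, hat, hct, hdt,
      het, hft] at hcol
    norm_num at hcol
  obtain ⟨sw, ⟨wt, hwt⟩, W, hW0, hW⟩ := hmem ho w (by simp)
  have hB7 : ∀ v ∈ [h.fam 0, a, c, d, e, f, w], ∀ χ : IrrCharacter G, χ ∉ principalBlock M G →
      classInner v (χ : G → ℂ) = 0 := by
    intro v hv χ hχ
    simp only [List.mem_cons, List.not_mem_nil, or_false] at hv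
    rcases hv with rfl | rfl | rfl | rfl | rfl | rfl | rfl
    iterate 6 exact hB6 _ (by simp) χ hχ
    have n4 := h.inner_eq_zero hM 3 hχ
    rwa [show h.ind 3 = c - e + _ from e4, classInner_add_left, classInner_sub_left,
      hB6 c (by simp) χ hχ, hB6 e (by simp) χ hχ, sub_zero, zero_add] at n4
  obtain rfl : W = y - x := by
    have u4 := congrFun e4 1
    simp only [Core.fam, Pi.add_apply, Pi.sub_apply, h.ind_one, hx, hy, hW] at u4
    have : x - y + W = 0 := by exact_mod_cast u4.symm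
    omega
  obtain rfl : wt = et - 2 := by
    have u4 := congrFun e4 t
    simp only [Core.fam, Pi.add_apply, Pi.sub_apply, tv, t4, map_zero, hct, het, hwt] at u4
    have : (2 : ℤ) - et + wt = 0 := by exact_mod_cast u4.symm
    omega
  have hrange : et = 2 ∨ et = 3 ∨ et = 4 := by
    have hcol := column_le_block hM h ho hB7
    simp only [List.map_cons, List.map_nil, List.sum_cons, List.sum_nil, Core.fam, hat, hct, hdt,
      het, hft, hwt] at hcol
    have hs : ∀ z : ℤ, Complex.normSq (z : ℂ) = ((z * z : ℤ) : ℝ) := fun z => by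
      rw [← Complex.ofReal_intCast, Complex.normSq_ofReal, Int.cast_mul]
    simp only [hs, map_one] at hcol
    have h2 : et * et + (7 - et) * (7 - et) + (et - 2) * (et - 2) ≤ 30 := by
      have : ((et * et + (7 - et) * (7 - et) + (et - 2) * (et - 2) : ℤ) : ℝ) ≤ ((30 : ℤ) : ℝ) := by
        push_cast at hcol ⊢
        linarith
      exact_mod_cast this
    have : et ≤ 4 := by nlinarith
    have : 2 ≤ et := by nlinarith
    omega
  have q4 := hq 3 (m * 4608) _ e4 (by simp [hmdef])
  rw [qfun_add, qfun_sub, qfun_sg t sc, qfun_sg t se, qfun_sg t sw, hct, het, hwt, hx, hy, hW] at q4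
  have c4 := cleared' hx0 hy0 hW0 q4
  have hAc : (x ^ 2 - 4 * x + 4) * (y * (y - x)) =
      (x + 1) * (4 * (y * (y - x)) - et ^ 2 * (x * (y - x)) + (et - 2) ^ 2 * (x * y)) := by
    refine mul_left_cancel₀ (mul_ne_zero hgpos.ne' hx0) ?_
    linear_combination (x * (y * (y - x))) * hg1 - (x * (x + 1)) * c4
  have hx1 : x + 1 ≠ 0 := by omega
  rcases hrange with rfl | rfl | rfl
  · refine (no_two (x := x) (y := y) hx1 ?_ (by linear_combination hB)).elim
    have : x * (y - x) * (y * (x - 8) + 4 * (x + 1)) = 0 := by linear_combination hAc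
    simpa [hx0, hW0] using this
  · have hA' : y = x + 1 ∨ y * (x - 8) = -9 * x := by
      have : x * ((y - x - 1) * (y * (x - 8) + 9 * x)) = 0 := by linear_combination hAc
      rcases mul_eq_zero.1 ((mul_eq_zero.1 this).resolve_left hx0) with h' | h'
      · left; omega
      · right; linarith
    have h16 : 16 ∣ g := by
      rw [hg]
      refine Int.natCast_dvd_natCast.2 ((Dvd.dvd.trans ?_ (Subgroup.card_subgroup_dvd_card (centralizer ({t} : Set G)))))
      rw [h.card_centralizer]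
      exact Dvd.dvd.mul_left (by norm_num) _
    have h32 : ¬ 32 ∣ g := fun hd => h.not32 (by rw [hg] at hd; exact_mod_cast hd)
    have hmodd : Odd m := by
      rw [hmdef]; exact_mod_cast h.odd.mul h.lifts_odd.pow
    rcases degrees_of (g := g) (x := x) (y := y) hmodd h16 h32 hA'
      (by linear_combination hB) hg1 with ⟨rfl, -⟩ | ⟨rfl, rfl⟩ | hbad
    · obtain ⟨χ, ε, hε, hB'⟩ := exists_member hM ho hB7 (v := c) (by simp)
      exact ⟨χ, 10, hε.1, degree_of hB' hx (by norm_num), by norm_num, by norm_num⟩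
    · obtain ⟨χ, ε, hε, hB'⟩ := exists_member hM ho hB7 (v := e) (by simp)
      exact ⟨χ, 13, hε.1, degree_of hB' hy (by norm_num), by norm_num, by norm_num⟩
    · exfalso; omega
  · refine (no_four (x := x) (y := y) hx0 hx1 ?_ (by linear_combination hB)).elim
    have : x * ((x - 8) * y ^ 2 + (-x * (x - 8) + 12 * (x + 1)) * y - 16 * x * (x + 1)) = 0 := by
      linear_combination hAc
    exact (mul_eq_zero.1 this).resolve_left hx0

end CfsgLib.Char.GLThreeCore
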